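import Groth.Agent.TsenLib.Norm
import Mathlib

/-!
# Norm one elements over `C₁` fields
-/

set_option autoImplicit false

universe u

namespace Groth.Agent.GalCohMisc

open MvPolynomial in
/-- Norms are surjective over a `C₁` field. -/
theorem norm_surjective_of_isCr {K L : Type u} [Field K] [Field L] [Algebra K L]
    [FiniteDimensional K L] (hK : Curves.IsCr K 1) :
    Function.Surjective (Algebra.norm K : L → K) := by
  classical
  intro a
  rcases eq_or_ne a 0 with rfl | ha
  · exact ⟨0, Algebra.norm_zero⟩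
  set e := Module.finrank K L
  have hpos : 0 < e := Module.finrank_pos
  let b := Module.finBasis K L
  let M : Matrix (Fin e) (Fin e) (MvPolynomial (Fin (e + 1)) K) := Matrix.of fun i j =>
    ∑ l, C (Algebra.leftMulMatrix b (b l) i j) * X l.castSucc
  let P : MvPolynomial (Fin (e + 1)) K := M.det - C a * X (Fin.last e) ^ e
  have hM : M.det.IsHomogeneous (e * 1) := TsenLib.isHomogeneous_det M fun i j => by
    simp only [M, Matrix.of_apply]
    exact IsHomogeneous.sum _ _ _ fun l _ => isHomogeneous_C_mul_X _ _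
  rw [mul_one] at hM
  obtain ⟨z, hz, hz'⟩ := hK (e + 1) e P (hM.sub (isHomogeneous_C_mul_X_pow a _ e)) hpos (by simp)
  set x : L := ∑ l, z l.castSucc • b l with hx
  have hev : eval z M.det = Algebra.norm K x := by
    rw [Algebra.norm_eq_matrix_det b, RingHom.map_det]
    congr 1
    ext i j
    simp [M, hx, map_sum, Matrix.sum_apply, mul_comm]
  have hN : Algebra.norm K x = a * z (Fin.last e) ^ e := by
    rw [← hev, ← sub_eq_zero]
    simpa [P] using hz'
  have ht : z (Fin.last e) ≠ 0 := by
    intro ht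
    rw [ht, zero_pow hpos.ne', mul_zero, Algebra.norm_eq_zero_iff] at hN
    refine hz (funext fun i => ?_)
    induction i using Fin.lastCases with
    | last => exact ht
    | cast l => exact Fintype.linearIndependent_iff.1 b.linearIndependent _ hN l
  refine ⟨algebraMap K L (z (Fin.last e))⁻¹ * x, ?_⟩
  rw [map_mul, Algebra.norm_algebraMap, hN, inv_pow, mul_comm a, ← mul_assoc,
    inv_mul_cancel₀ (pow_ne_zero _ ht), one_mul]

/-- Hilbert 90 for cyclic extensions, in any universe. -/
theorem exists_div_of_norm_eq_one {K L : Type u} [Field K] [Field L] [Algebra K L]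
    [FiniteDimensional K L] [IsGalois K L] {g : L ≃ₐ[K] L} (hg : ∀ h, h ∈ Subgroup.zpowers g)
    {x : L} (hx : Algebra.norm K x = 1) : ∃ y : Lˣ, (y : L) / g y = x := by
  classical
  set n := Nat.card (L ≃ₐ[K] L)
  have hord : orderOf g = n := orderOf_eq_card_of_forall_mem_zpowers hg
  let c : ℕ → L := fun i => ∏ j ∈ Finset.range i, (g ^ j) x
  have hbij : Function.Bijective fun i : Fin n => g ^ (i : ℕ) := by
    refine (Fintype.bijective_iff_injective_and_card _).2 ⟨fun i j h => Fin.ext ?_, ?_⟩
    · have := pow_eq_pow_iff_modEq.1 h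
      rw [hord] at this
      exact this.eq_of_lt_of_lt i.2 j.2
    · rw [Fintype.card_fin, ← Nat.card_eq_fintype_card]
  have hcn : c n = 1 := by
    have h1 := congrArg (algebraMap K L) hx
    rw [map_one, Algebra.norm_eq_prod_automorphisms] at h1
    rw [← h1]
    simp only [c, Finset.prod_range]
    exact Fintype.prod_equiv (Equiv.ofBijective _ hbij) _ _ fun i => rfl
  have hcs : ∀ i, x * g (c i) = c (i + 1) := fun i => by
    simp only [c, map_prod]
    rw [Finset.prod_range_succ', pow_zero, mul_comm]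
    simp only [AlgEquiv.one_apply]
    congr 1
    exact Finset.prod_congr rfl fun j _ => by rw [pow_succ', AlgEquiv.mul_apply]
  obtain ⟨z, hz⟩ : ∃ z, (∑ i : Fin n, c i • (g ^ (i : ℕ)) z) ≠ 0 := by
    by_contra! h
    have hinj : Function.Injective fun i : Fin n => ((g ^ (i : ℕ) : L ≃ₐ[K] L) : L →* L) :=
      fun i j hij => hbij.1 (AlgEquiv.ext fun z => DFunLike.congr_fun hij z)
    have h0 := Fintype.linearIndependent_iff.1 ((linearIndependent_monoidHom L L).comp _ hinj)
      (fun i => c i) (funext fun z => by simpa [Finset.sum_apply] using h z) ⟨0, Nat.card_pos⟩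
    simp [c] at h0
  set y := ∑ i : Fin n, c i • (g ^ (i : ℕ)) z with hy
  have hfix : x * g y = y := by
    have hf : ∀ i, x * g (c i • (g ^ i) z) = c (i + 1) • (g ^ (i + 1)) z := fun i => by
      rw [smul_eq_mul, map_mul, ← mul_assoc, hcs, smul_eq_mul, pow_succ', AlgEquiv.mul_apply]
    rw [hy, map_sum, Finset.mul_sum]
    simp only [hf]
    rw [Fin.sum_univ_eq_sum_range (fun i => c (i + 1) • (g ^ (i + 1)) z) n,
      Fin.sum_univ_eq_sum_range (fun i => c i • (g ^ i) z) n]
    obtain ⟨m, hm⟩ : ∃ m, n = m + 1 := ⟨n - 1, by have : 0 < n := Nat.card_pos; omega⟩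
    rw [hm, Finset.sum_range_succ, Finset.sum_range_succ', ← hm, hcn, ← hord, pow_orderOf_eq_one]
    simp [c]
  refine ⟨Units.mk0 y hz, ?_⟩
  have hgy : g y ≠ 0 := (map_ne_zero _).2 hz
  rw [Units.val_mk0, div_eq_iff hgy, hfix]

variable (K L : Type u) [Field K] [Field L] [Algebra K L]

/-- The subgroup generated by the `w / g w`. -/
def augUnits : Subgroup Lˣ :=
  Subgroup.closure {v : Lˣ | ∃ (w : Lˣ) (g : L ≃ₐ[K] L), (v : L) = (w : L) / g (w : L)}

variable {K L}

lemma div_mem_augUnits (w : Lˣ) (g : L ≃ₐ[K] L) :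
    w / Units.map (g : L →* L) w ∈ augUnits K L :=
  Subgroup.subset_closure ⟨w, g, by simp [Units.val_div_eq_div_val]⟩

theorem norm_eq_one_of_mem [FiniteDimensional K L] [IsGalois K L] {u : Lˣ}
    (hu : u ∈ augUnits K L) : Algebra.norm K (u : L) = 1 := by
  induction hu using Subgroup.closure_induction with
  | mem x hx =>
    obtain ⟨w, g, hw⟩ := hx
    have hg : Algebra.norm K (g (w : L)) = Algebra.norm K (w : L) := by
      refine (algebraMap K L).injective ?_
      rw [Algebra.norm_eq_prod_automorphisms, Algebra.norm_eq_prod_automorphisms]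
      exact Fintype.prod_equiv (Equiv.mulRight g) _ _ (fun h => rfl)
    rw [hw, div_eq_mul_inv, map_mul, Algebra.norm_inv, hg, mul_inv_cancel₀]
    exact Algebra.norm_ne_zero_iff.2 w.ne_zero
  | one => simp
  | mul x y _ _ hx hy => rw [Units.val_mul, map_mul, hx, hy, one_mul]
  | inv x _ hx => rw [Units.val_inv_eq_inv_val, Algebra.norm_inv, hx, inv_one]

/-- Norm one elements of a `p`-extension of a `C₁` field. -/
theorem mem_augUnits_of_isPGroup (hK : Curves.IsCr K 1) (p : ℕ) [Fact p.Prime] :
    ∀ (n : ℕ) (L : Type u) [Field L] [Algebra K L] [FiniteDimensional K L] [IsGalois K L],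
      Module.finrank K L = n → IsPGroup p (L ≃ₐ[K] L) →
      ∀ u : Lˣ, Algebra.norm K (u : L) = 1 → u ∈ augUnits K L := by
  intro n
  induction n using Nat.strong_induction_on with
  | _ n ih =>
  intro L _ _ _ _ hn hp u hu
  subst hn
  rcases subsingleton_or_nontrivial (L ≃ₐ[K] L) with hG | hG
  · have h1 : algebraMap K L (Algebra.norm K (u : L)) = u := by
      rw [Algebra.norm_eq_prod_automorphisms, Fintype.prod_subsingleton _ (1 : L ≃ₐ[K] L)]
      rfl
    rw [hu, map_one] at h1
    rw [show u = 1 from Units.ext h1.symm]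
    exact one_mem _
  -- a central subgroup of order `p`
  have := hp.center_nontrivial
  obtain ⟨z, hz⟩ : ∃ z : Subgroup.center (L ≃ₐ[K] L), orderOf z = p := by
    refine exists_prime_orderOf_dvd_card' p ?_
    obtain ⟨m, hm, hcard⟩ := (hp.to_subgroup (Subgroup.center (L ≃ₐ[K] L))).nontrivial_iff_card.1 this
    rw [hcard]
    exact dvd_pow_self p (by omega)
  let H : Subgroup (L ≃ₐ[K] L) := Subgroup.zpowers (z : L ≃ₐ[K] L)
  have : H.Normal := ⟨fun h hh g => by
    have hc : h ∈ Subgroup.center (L ≃ₐ[K] L) := Subgroup.zpowers_le.2 z.2 hh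
    rwa [Subgroup.mem_center_iff.1 hc g, mul_inv_cancel_right]⟩
  have hcard : Nat.card H = p := by
    rw [Nat.card_zpowers, Subgroup.orderOf_coe, hz]
  let M : IntermediateField K L := IntermediateField.fixedField H
  have hML : Module.finrank M L = p := by
    rw [IntermediateField.finrank_fixedField_eq_card, hcard]
  have hlt : Module.finrank K M < Module.finrank K L := by
    rw [← Module.finrank_mul_finrank K M L, hML]
    exact lt_mul_of_one_lt_right Module.finrank_pos (Fact.out (p := p.Prime)).one_lt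
  have : IsGalois K M := inferInstance
  have hsurj := AlgEquiv.restrictNormalHom_surjective (F := K) (K₁ := M) (E := L)
  have hMp : IsPGroup p (M ≃ₐ[K] M) := hp.of_surjective _ hsurj
  let m : Mˣ := Units.mk0 (Algebra.norm M (u : L)) (Algebra.norm_ne_zero_iff.2 u.ne_zero)
  have hm : m ∈ augUnits K M := ih _ hlt M rfl hMp m (by
    simp only [m, Units.val_mk0, Algebra.norm_norm, hu])
  -- lift along the norm
  have hMC : Curves.IsCr M 1 := TsenLib.isCr_one_of_finite hK
  have hlift : ∀ w : Mˣ, w ∈ augUnits K M →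
      ∃ x ∈ augUnits K L, Algebra.norm M (x : L) = (w : M) := by
    intro w hw
    induction hw using Subgroup.closure_induction with
    | mem w hw =>
      obtain ⟨v, g, hv⟩ := hw
      obtain ⟨g', hg'⟩ := hsurj g
      obtain ⟨y, hy⟩ := norm_surjective_of_isCr (L := L) hMC (v : M)
      have hy0 : y ≠ 0 := fun h => v.ne_zero (by rw [← hy, h, Algebra.norm_zero])
      refine ⟨Units.mk0 y hy0 / Units.map (g' : L →* L) (Units.mk0 y hy0), div_mem_augUnits _ _, ?_⟩
      have hgy : Algebra.norm M (g' y) = g (v : M) := by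
        have hcomm : (algebraMap M L).comp (g.toRingEquiv : M →+* M) =
            ((g'.toRingEquiv : L →+* L)).comp (algebraMap M L) := RingHom.ext fun a => by
          simp only [RingHom.comp_apply]
          rw [← hg']
          exact AlgEquiv.restrictNormal_commutes g' M a
        have h := Algebra.norm_eq_of_equiv_equiv g.toRingEquiv g'.toRingEquiv hcomm y
        rw [hy] at h
        exact (g.eq_symm_apply.1 (h)).symm
      simp only [Units.val_div_eq_div_val, Units.val_mk0, Units.coe_map, div_eq_mul_inv, map_mul,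
        Units.val_mul, Units.val_inv_eq_inv_val, Algebra.norm_inv, hv]
      rw [hy]
      erw [hgy]
    | one => exact ⟨1, one_mem _, by simp⟩
    | mul a b _ _ ha hb =>
      obtain ⟨x, hx, hx'⟩ := ha
      obtain ⟨y, hy, hy'⟩ := hb
      exact ⟨x * y, mul_mem hx hy, by rw [Units.val_mul, map_mul, hx', hy', Units.val_mul]⟩
    | inv a _ ha =>
      obtain ⟨x, hx, hx'⟩ := ha
      exact ⟨x⁻¹, inv_mem hx, by
        rw [Units.val_inv_eq_inv_val, Algebra.norm_inv, hx', Units.val_inv_eq_inv_val]⟩
  obtain ⟨x, hx, hx'⟩ := hlift m hm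
  have hux : Algebra.norm M ((u / x : Lˣ) : L) = 1 := by
    rw [Units.val_div_eq_div_val, div_eq_mul_inv, map_mul, Algebra.norm_inv, hx']
    simp only [m, Units.val_mk0]
    exact mul_inv_cancel₀ (Algebra.norm_ne_zero_iff.2 u.ne_zero)
  have hLM : Nat.card (L ≃ₐ[M] L) = p := by
    rw [IsGalois.card_aut_eq_finrank, hML]
  have : IsCyclic (L ≃ₐ[M] L) := isCyclic_of_prime_card hLM
  obtain ⟨g, hg⟩ := IsCyclic.exists_generator (α := L ≃ₐ[M] L)
  obtain ⟨y, hy⟩ := exists_div_of_norm_eq_one hg hux
  rw [← div_mul_cancel u x]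
  exact mul_mem (Subgroup.subset_closure ⟨y, g.restrictScalars K, hy.symm⟩) hx

open scoped Pointwise in
/-- Norm one elements of a Galois extension of a `C₁` field. -/
theorem mem_augUnits [FiniteDimensional K L] [IsGalois K L] (hK : Curves.IsCr K 1) {u : Lˣ}
    (hu : Algebra.norm K (u : L) = 1) : u ∈ augUnits K L := by
  classical
  set S := augUnits K L with hS
  suffices h : orderOf (QuotientGroup.mk u : Lˣ ⧸ S) = 1 from
    (QuotientGroup.eq_one_iff u).1 (orderOf_eq_one_iff.1 h)
  refine Nat.eq_one_iff_not_exists_prime_dvd.2 fun q hq hdvd => ?_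
  have : Fact q.Prime := ⟨hq⟩
  obtain ⟨P⟩ : Nonempty (Sylow q (L ≃ₐ[K] L)) := inferInstance
  refine P.not_dvd_index (hdvd.trans (orderOf_dvd_iff_pow_eq_one.2 ?_))
  rw [← QuotientGroup.mk_pow, QuotientGroup.eq_one_iff]
  let F : IntermediateField K L := IntermediateField.fixedField (P : Subgroup (L ≃ₐ[K] L))
  let e : (P : Subgroup (L ≃ₐ[K] L)) ≃* (L ≃ₐ[F] L) :=
    (MulEquiv.subgroupCongr (IntermediateField.fixingSubgroup_fixedField _).symm).trans
      (IntermediateField.fixingSubgroupEquiv F)
  obtain ⟨T, hT, -⟩ := (P : Subgroup (L ≃ₐ[K] L)).exists_isComplement_right 1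
  have hTcard : Nat.card T = (P : Subgroup (L ≃ₐ[K] L)).index := hT.card_right
  have : Fintype T := Fintype.ofFinite T
  set R : Lˣ := ∏ t : T, Units.map ((t : L ≃ₐ[K] L) : L →* L) u with hR
  have hR1 : Algebra.norm F (R : L) = 1 := by
    refine (algebraMap F L).injective ?_
    rw [map_one, Algebra.norm_eq_prod_automorphisms, hR, Units.coe_prod]
    simp only [map_prod, Units.coe_map]
    calc ∏ σ : L ≃ₐ[F] L, ∏ t : T, σ ((t : L ≃ₐ[K] L) (u : L))
        = ∏ σ : (P : Subgroup (L ≃ₐ[K] L)), ∏ t : T, (σ : L ≃ₐ[K] L) ((t : L ≃ₐ[K] L) (u : L)) :=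
          (Fintype.prod_equiv e.toEquiv _ _ fun σ => rfl).symm
      _ = ∏ g : L ≃ₐ[K] L, g (u : L) := by
          rw [← Fintype.prod_prod_type']
          exact Fintype.prod_equiv (Equiv.ofBijective _ hT) _ _ fun q => rfl
      _ = 1 := by rw [← Algebra.norm_eq_prod_automorphisms, hu, map_one]
  have hRS : R ∈ S := by
    have hPgrp : IsPGroup q (L ≃ₐ[F] L) := P.isPGroup'.of_equiv e
    have hmem := mem_augUnits_of_isPGroup (K := F) (TsenLib.isCr_one_of_finite hK) q _ L rfl hPgrp R hR1
    refine (Subgroup.closure_le _).2 ?_ hmem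
    rintro v ⟨w, g, hv⟩
    exact Subgroup.subset_closure ⟨w, g.restrictScalars K, hv⟩
  have hq' : u ^ (P : Subgroup (L ≃ₐ[K] L)).index / R ∈ S := by
    rw [← hTcard, Nat.card_eq_fintype_card, ← Finset.card_univ, ← Finset.prod_const, hR,
      ← Finset.prod_div_distrib]
    exact Subgroup.prod_mem _ fun t _ => div_mem_augUnits u _
  rw [← div_mul_cancel (u ^ (P : Subgroup (L ≃ₐ[K] L)).index) R]
  exact mul_mem hq' hRS

end Groth.Agent.GalCohMisc
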