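import Mathlib

/-!
# A criterion for a finite-dimensional module to be cyclic
-/

set_option autoImplicit false

universe u v w

namespace Groth.Agent.GalCohMisc

variable {k : Type u} [Field k] {B : Type v} [Ring B] [Algebra k B]

/-- A finite-dimensional module whose spaces of maps to simple modules are no bigger than those of
the ring is cyclic. -/
theorem exists_span_singleton_eq_top (N : Type w) [AddCommGroup N] [Module k N] [Module B N]
    [IsScalarTower k B N] [FiniteDimensional k N]
    (h : ∀ (T : Type w) [AddCommGroup T] [Module k T] [Module B T] [IsScalarTower k B T]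
      [FiniteDimensional k T], IsSimpleModule B T →
        Module.finrank k (N →ₗ[B] T) ≤ Module.finrank k T) :
    ∃ n : N, Submodule.span B {n} = ⊤ := by
  induction hd : Module.finrank k N using Nat.strong_induction_on generalizing N with
  | _ d ih =>
  subst hd
  rcases subsingleton_or_nontrivial N with hN | hN
  · exact ⟨0, Submodule.eq_top_iff'.2 fun x => by rw [Subsingleton.elim x 0]; exact zero_mem _⟩
  have : IsArtinian B N := isArtinian_of_tower k inferInstance
  obtain ⟨S, hS, -⟩ := (eq_bot_or_exists_atom_le (⊤ : Submodule B N)).resolve_left top_ne_bot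
  have hSs : IsSimpleModule B S := (isSimpleModule_iff_isAtom).2 hS
  have : FiniteDimensional k S :=
    Module.Finite.of_injective (S.subtype.restrictScalars k) Subtype.val_injective
  have : FiniteDimensional k (N ⧸ S) :=
    Module.Finite.of_surjective (S.mkQ.restrictScalars k) S.mkQ_surjective
  have hfin : ∀ (M T : Type w) [AddCommGroup M] [Module k M] [Module B M] [IsScalarTower k B M]
      [AddCommGroup T] [Module k T] [Module B T] [IsScalarTower k B T]
      [FiniteDimensional k M] [FiniteDimensional k T], FiniteDimensional k (M →ₗ[B] T) := by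
    intro M T _ _ _ _ _ _ _ _ _ _
    exact Module.Finite.of_injective (LinearMap.restrictScalarsₗ (S := B) (M := M) (N := T) (R := k) (R₁ := k))
      (LinearMap.restrictScalars_injective k)
  have hlt : Module.finrank k (N ⧸ S) < Module.finrank k N := by
    have e := Submodule.finrank_quotient_add_finrank (S.restrictScalars k)
    have hpos : 0 < Module.finrank k S := by
      have : Nontrivial S := Submodule.nontrivial_iff_ne_bot.2 hS.1
      exact Module.finrank_pos
    have e2 : Module.finrank k (N ⧸ S) = Module.finrank k (N ⧸ S.restrictScalars k) :=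
      (LinearEquiv.finrank_eq (Submodule.Quotient.restrictScalarsEquiv k S)).symm
    change _ + Module.finrank k S = _ at e
    omega
  obtain ⟨q, hq⟩ := ih _ hlt (N ⧸ S) (fun T _ _ _ _ _ hT => by
    have := hfin N T
    refine le_trans ?_ (h T hT)
    refine LinearMap.finrank_le_finrank_of_injective (f := LinearMap.lcomp k T S.mkQ) ?_
    exact fun a b hab => LinearMap.ext fun x => by
      obtain ⟨y, rfl⟩ := S.mkQ_surjective x
      exact LinearMap.congr_fun hab y) rfl
  obtain ⟨n, rfl⟩ := S.mkQ_surjective q
  by_contra! hcon
  have hcompl : ∀ s ∈ S, IsCompl (Submodule.span B {n + s}) S := by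
    intro s hs
    have hsup : Submodule.span B {n + s} ⊔ S = ⊤ := by
      rw [eq_top_iff]
      intro x _
      have hx : S.mkQ x ∈ Submodule.span B {S.mkQ n} := hq ▸ Submodule.mem_top
      obtain ⟨b, hb⟩ := Submodule.mem_span_singleton.1 hx
      rw [← map_smul] at hb
      have hb' : b • (n + s) - x ∈ S := by
        rw [smul_add, add_sub_right_comm]
        exact add_mem ((Submodule.Quotient.eq S).1 hb) (S.smul_mem b hs)
      rw [← sub_sub_cancel (b • (n + s)) x]
      exact sub_mem (Submodule.mem_sup_left (Submodule.mem_span_singleton.2 ⟨b, rfl⟩))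
        (Submodule.mem_sup_right hb')
    refine ⟨?_, codisjoint_iff.2 hsup⟩
    rw [disjoint_iff]
    rcases hS.le_iff.1 (inf_le_right : Submodule.span B {n + s} ⊓ S ≤ S) with h0 | h0
    · exact h0
    · exfalso
      refine hcon (n + s) ?_
      rw [← hsup, left_eq_sup]
      exact inf_eq_right.1 h0
  let π : ∀ s : S, N →ₗ[B] S := fun s =>
    Submodule.projectionOnto S (Submodule.span B {n + (s : N)}) (hcompl s s.2).symm
  have hπS : ∀ (s : S) (y : S), π s (y : N) = y := fun s y =>
    Submodule.projectionOnto_apply_left _ y
  have hπn : ∀ s : S, π s (n + s) = 0 := fun s =>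
    Submodule.projectionOnto_apply_eq_zero_iff _ |>.2 (Submodule.mem_span_singleton_self _)
  -- evaluation at `n` of maps vanishing on `S` is surjective
  let ev : ((N ⧸ S) →ₗ[B] S) →ₗ[k] S :=
    { toFun := fun f => f (S.mkQ n)
      map_add' := fun _ _ => rfl
      map_smul' := fun _ _ => rfl }
  have hev : Function.Surjective ev := by
    intro s
    have h0 : S ≤ LinearMap.ker (π 0 - π s) := fun y hy => by
      rw [LinearMap.mem_ker, LinearMap.sub_apply, hπS 0 ⟨y, hy⟩, hπS s ⟨y, hy⟩, sub_self]
    refine ⟨S.liftQ _ h0, ?_⟩
    change (π 0 - π s) n = s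
    have h1 : π 0 n = 0 := by simpa using hπn 0
    have h2 : π s n + s = 0 := by rw [← hπn s, map_add, hπS s s]
    rw [LinearMap.sub_apply, h1, zero_sub]
    exact (eq_neg_of_add_eq_zero_right h2).symm
  have := hfin N S
  have := hfin (N ⧸ S) S
  let incl : ((N ⧸ S) →ₗ[B] S) →ₗ[k] (N →ₗ[B] S) := LinearMap.lcomp k S S.mkQ
  have hincl : Function.Injective incl := fun a b hab => LinearMap.ext fun x => by
    obtain ⟨y, rfl⟩ := S.mkQ_surjective x
    exact LinearMap.congr_fun hab y
  have hne : LinearMap.range incl ≠ ⊤ := by
    intro htop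
    obtain ⟨f, hf⟩ : π 0 ∈ LinearMap.range incl := htop ▸ Submodule.mem_top
    obtain ⟨⟨y, hy⟩, hy0⟩ : ∃ y : S, y ≠ 0 := by
      have : Nontrivial S := Submodule.nontrivial_iff_ne_bot.2 hS.1
      exact exists_ne 0
    have := LinearMap.congr_fun hf y
    rw [hπS 0 ⟨y, hy⟩] at this
    change f (S.mkQ y) = _ at this
    rw [show S.mkQ y = 0 from (Submodule.Quotient.mk_eq_zero S).2 hy, map_zero] at this
    exact hy0 this.symm
  have h3 := Submodule.finrank_lt hne
  rw [LinearMap.finrank_range_of_inj hincl] at h3
  have h4 := LinearMap.finrank_le_finrank_of_surjective hev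
  have h5 := h S hSs
  omega

end Groth.Agent.GalCohMisc
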