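import Mathlib

/-!
# Symmetric and alternating tensors over `𝔽₂`
-/

set_option autoImplicit false

open scoped TensorProduct

namespace Groth.Agent.GalCohMisc

variable {G : Type*} [Group G] {V : Type*} [AddCommGroup V] [Module (ZMod 2) V]

variable (V) in
/-- The span of the squares `v ⊗ v`. -/
abbrev symSq : Submodule (ZMod 2) (V ⊗[ZMod 2] V) :=
  Submodule.span (ZMod 2) (Set.range fun v : V => v ⊗ₜ[ZMod 2] v)

variable (V) in
/-- The span of the symmetrised tensors `v ⊗ w + w ⊗ v`. -/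
abbrev normSq : Submodule (ZMod 2) (V ⊗[ZMod 2] V) :=
  Submodule.span (ZMod 2)
    (Set.range fun p : V × V => p.1 ⊗ₜ[ZMod 2] p.2 + p.2 ⊗ₜ[ZMod 2] p.1)

lemma self_mem_symSq (v : V) : v ⊗ₜ[ZMod 2] v ∈ symSq V := Submodule.subset_span ⟨v, rfl⟩

lemma mem_normSq (v w : V) : v ⊗ₜ[ZMod 2] w + w ⊗ₜ[ZMod 2] v ∈ normSq V :=
  Submodule.subset_span ⟨(v, w), rfl⟩

lemma normSq_le_symSq : normSq V ≤ symSq V := by
  rw [Submodule.span_le]
  rintro _ ⟨⟨v, w⟩, rfl⟩
  have : v ⊗ₜ[ZMod 2] w + w ⊗ₜ[ZMod 2] v =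
      (v + w) ⊗ₜ[ZMod 2] (v + w) - v ⊗ₜ v - w ⊗ₜ w := by
    simp only [TensorProduct.add_tmul, TensorProduct.tmul_add]; abel
  change v ⊗ₜ[ZMod 2] w + w ⊗ₜ[ZMod 2] v ∈ symSq V
  rw [this]
  exact sub_mem (sub_mem (self_mem_symSq _) (self_mem_symSq _)) (self_mem_symSq _)

lemma tprod_symSq (ρ : Representation (ZMod 2) G V) (g : G) {x : V ⊗[ZMod 2] V}
    (hx : x ∈ symSq V) : ρ.tprod ρ g x ∈ symSq V := by
  induction hx using Submodule.span_induction with
  | mem x hx =>
    obtain ⟨v, rfl⟩ := hx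
    simpa using self_mem_symSq (ρ g v)
  | zero => simp
  | add x y _ _ ihx ihy => rw [map_add]; exact add_mem ihx ihy
  | smul c x _ ih => rw [map_smul]; exact Submodule.smul_mem _ _ ih

lemma tprod_normSq (ρ : Representation (ZMod 2) G V) (g : G) {x : V ⊗[ZMod 2] V}
    (hx : x ∈ normSq V) : ρ.tprod ρ g x ∈ normSq V := by
  induction hx using Submodule.span_induction with
  | mem x hx =>
    obtain ⟨⟨v, w⟩, rfl⟩ := hx
    simpa using mem_normSq (ρ g v) (ρ g w)
  | zero => simp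
  | add x y _ _ ihx ihy => rw [map_add]; exact add_mem ihx ihy
  | smul c x _ ih => rw [map_smul]; exact Submodule.smul_mem _ _ ih

/-- The refinement `q(u, v) = u ⊗ v + u ⊗ u + v ⊗ v` of `u ∧ v`. -/
def qTensor (u v : V) : V ⊗[ZMod 2] V := u ⊗ₜ v + u ⊗ₜ u + v ⊗ₜ v

lemma qTensor_sub_mem_symSq (u v : V) : qTensor u v - u ⊗ₜ v ∈ symSq V := by
  have : qTensor u v - u ⊗ₜ v = u ⊗ₜ u + v ⊗ₜ v := by simp [qTensor]; abel
  rw [this]
  exact add_mem (self_mem_symSq _) (self_mem_symSq _)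

/-- If `g` preserves the plane spanned by `u, v`, it fixes `q(u, v)` modulo `normSq`. -/
lemma tprod_qTensor_sub_mem (ρ : Representation (ZMod 2) G V) (g : G) {u v : V}
    (huv : u ⊗ₜ[ZMod 2] v ∉ symSq V)
    (hu : ρ g u ∈ Submodule.span (ZMod 2) {u, v}) (hv : ρ g v ∈ Submodule.span (ZMod 2) {u, v}) :
    ρ.tprod ρ g (qTensor u v) - qTensor u v ∈ normSq V := by
  obtain ⟨a, b, hu⟩ := Submodule.mem_span_pair.1 hu
  obtain ⟨c, d, hv⟩ := Submodule.mem_span_pair.1 hv
  have hz : ∀ x : ZMod 2, x = 0 ∨ x = 1 := by decide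
  have hdet : a * d - b * c = 1 := by
    refine (hz _).resolve_left fun h => huv ?_
    have key : ρ.tprod ρ g (u ⊗ₜ v) - (a * d - b * c) • (u ⊗ₜ v) ∈ symSq V := by
      have e : ρ.tprod ρ g (u ⊗ₜ v) - (a * d - b * c) • (u ⊗ₜ v) =
          (a * c) • u ⊗ₜ[ZMod 2] u + (b * d) • v ⊗ₜ[ZMod 2] v +
            (b * c) • (u ⊗ₜ[ZMod 2] v + v ⊗ₜ[ZMod 2] u) := by
        simp only [Representation.tprod_apply, TensorProduct.map_tmul, ← hu, ← hv,
          TensorProduct.add_tmul, TensorProduct.tmul_add, ← TensorProduct.smul_tmul',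
          TensorProduct.tmul_smul]
        module
      rw [e]
      exact add_mem (add_mem (Submodule.smul_mem _ _ (self_mem_symSq _))
        (Submodule.smul_mem _ _ (self_mem_symSq _)))
        (Submodule.smul_mem _ _ (normSq_le_symSq (mem_normSq _ _)))
    rw [h, zero_smul, sub_zero] at key
    have := tprod_symSq ρ g⁻¹ key
    rwa [← Module.End.mul_apply, ← map_mul, inv_mul_cancel, map_one, Module.End.one_apply] at this
  have sq : ∀ a b c d : ZMod 2, a * d - b * c = 1 →
      a * a + c * c + a * c - 1 = 0 ∧ b * b + d * d + b * d - 1 = 0 ∧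
        a * d + a * b + c * d - 1 = b * c + a * b + c * d := by decide
  obtain ⟨h₁, h₂, h₃⟩ := sq a b c d hdet
  have e : ρ.tprod ρ g (qTensor u v) - qTensor u v =
      (b * c + a * b + c * d) • (u ⊗ₜ[ZMod 2] v + v ⊗ₜ[ZMod 2] u) := by
    have e' : ρ.tprod ρ g (qTensor u v) - qTensor u v =
        (a * a + c * c + a * c - 1) • u ⊗ₜ[ZMod 2] u + (b * b + d * d + b * d - 1) • v ⊗ₜ[ZMod 2] v +
        (a * d + a * b + c * d - 1) • u ⊗ₜ[ZMod 2] v + (b * c + a * b + c * d) • v ⊗ₜ[ZMod 2] u := by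
      simp only [qTensor, map_add, Representation.tprod_apply, TensorProduct.map_tmul, ← hu, ← hv,
        TensorProduct.add_tmul, TensorProduct.tmul_add, ← TensorProduct.smul_tmul',
        TensorProduct.tmul_smul]
      module
    rw [e', h₁, h₂, h₃, zero_smul, zero_smul, zero_add, zero_add, smul_add]
  rw [e]
  exact Submodule.smul_mem _ _ (mem_normSq _ _)

/-- A stabiliser of `u ∧ v ≠ 0` preserves the plane spanned by `u, v`. -/
lemma map_mem_span_pair (ρ : Representation (ZMod 2) G V) (g : G) {u v : V}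
    (huv : u ⊗ₜ[ZMod 2] v ∉ symSq V)
    (hg : ρ.tprod ρ g (u ⊗ₜ v) - u ⊗ₜ v ∈ symSq V) :
    ρ g u ∈ Submodule.span (ZMod 2) {u, v} ∧ ρ g v ∈ Submodule.span (ZMod 2) {u, v} := by
  set P : Submodule (ZMod 2) V := Submodule.span (ZMod 2) {u, v}
  suffices h : ∀ φ : Module.Dual (ZMod 2) V, (∀ x ∈ P, φ x = 0) →
      φ (ρ g u) = 0 ∧ φ (ρ g v) = 0 by
    constructor <;>
    · by_contra hn
      obtain ⟨φ, h1, h2⟩ := Submodule.exists_dual_map_eq_bot_of_notMem hn inferInstance
      have hφ : ∀ x ∈ P, φ x = 0 := fun x hx =>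
        (Submodule.mem_bot (R := ZMod 2)).1 (h2 ▸ Submodule.mem_map_of_mem hx)
      first
        | exact h1 (h φ hφ).1
        | exact h1 (h φ hφ).2
  intro φ hφ
  let L : V ⊗[ZMod 2] V →ₗ[ZMod 2] V :=
    TensorProduct.lift
      (LinearMap.mk₂ (ZMod 2) (fun x y => φ x • y + φ y • x)
        (fun x₁ x₂ y => by simp [add_smul, smul_add]; abel)
        (fun r x y => by simp [smul_add, mul_smul, smul_comm r])
        (fun x y₁ y₂ => by simp [add_smul, smul_add]; abel)
        (fun r x y => by simp [smul_add, mul_smul, smul_comm r]))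
  have hL : ∀ z ∈ symSq V, L z = 0 := by
    intro z hz
    induction hz using Submodule.span_induction with
    | mem x hx =>
      obtain ⟨w, rfl⟩ := hx
      have h2 : ∀ c : ZMod 2, c + c = 0 := by decide
      simp [L, ← add_smul, h2]
    | zero => simp
    | add x y _ _ ihx ihy => rw [map_add, ihx, ihy, add_zero]
    | smul c x _ ih => rw [map_smul, ih, smul_zero]
  have h0 := hL _ hg
  simp only [map_sub, Representation.tprod_apply, TensorProduct.map_tmul, L,
    TensorProduct.lift.tmul, LinearMap.mk₂_apply] at h0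
  rw [hφ u (Submodule.subset_span (by simp)), hφ v (Submodule.subset_span (by simp)), zero_smul,
    zero_smul, add_zero, sub_zero] at h0
  have h1 : φ (ρ g u) • v + φ (ρ g v) • u = 0 := by
    have := congrArg (ρ g⁻¹) h0
    simpa only [map_add, map_smul, map_zero, ← Module.End.mul_apply, ← map_mul, inv_mul_cancel,
      map_one, Module.End.one_apply] using this
  have hz : ∀ x : ZMod 2, x = 0 ∨ x = 1 := by decide
  rcases hz (φ (ρ g u)) with hA | hA <;> rcases hz (φ (ρ g v)) with hB | hB <;>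
    rw [hA, hB] at h1 <;> rw [hA, hB]
  · exact ⟨rfl, rfl⟩
  · exact absurd (by
      have hu : u = 0 := by simpa using h1
      rw [hu, TensorProduct.zero_tmul]; exact zero_mem _) huv
  · exact absurd (by
      have hv : v = 0 := by simpa using h1
      rw [hv, TensorProduct.tmul_zero]; exact zero_mem _) huv
  · exact absurd (by
      have hv : v = -u := eq_neg_of_add_eq_zero_left (by simpa using h1)
      rw [hv, TensorProduct.tmul_neg]; exact neg_mem (self_mem_symSq _)) huv

end Groth.Agent.GalCohMisc
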