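import Groth.Agent.GalCohMisc.Cyclic
import Groth.Agent.GalDescX.Twist
import Groth.Prelude.Def_GSzCSA

/-!
# Hilbert 90 for the units of a finite-dimensional algebra
-/

set_option autoImplicit false

universe u v w

open scoped TensorProduct
open MulOpposite

attribute [local instance] CSAGal.tensorAction

namespace Groth.Agent.GalCohMisc

variable {k : Type u} [Field k] {K : Type v} [Field K] [Algebra k K] [FiniteDimensional k K]

/-- Finitely many copies of a space are its base change. -/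
theorem exists_piEquiv (W : Type*) [AddCommGroup W] [Module k W] :
    ∃ e : (Fin (Module.finrank k K) → W) ≃ₗ[k] K ⊗[k] W,
      ∀ f, e f = ∑ i, Module.finBasis k K i ⊗ₜ[k] f i := by
  classical
  refine ⟨(Finsupp.linearEquivFunOnFinite k W _).symm.trans
    (TensorProduct.equivFinsuppOfBasisLeft (Module.finBasis k K)).symm, fun f => ?_⟩
  rw [LinearEquiv.trans_apply, TensorProduct.equivFinsuppOfBasisLeft_symm_apply,
    Finsupp.sum_fintype _ _ (fun i => TensorProduct.tmul_zero _ _)]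
  rfl

variable [IsGalois k K] {A : Type w} [Ring A] [Algebra k A] [FiniteDimensional k A]

/-- A twisted Galois action on `K ⊗ A` has an invertible fixed vector. -/
theorem exists_unit_of_cocycle (a : (K ≃ₐ[k] K) → (K ⊗[k] A)ˣ)
    (ha : ∀ σ τ, ((a (σ * τ) : (K ⊗[k] A)ˣ) : K ⊗[k] A) = a σ * σ • (a τ : K ⊗[k] A)) :
    ∃ c : (K ⊗[k] A)ˣ, ∀ σ : K ≃ₐ[k] K, (a σ : K ⊗[k] A) * σ • (c : K ⊗[k] A) = c := by
  classical
  let L : (K ⊗[k] A)ˣ → ((K ⊗[k] A) ≃ₗ[K] (K ⊗[k] A)) := fun u =>
    { toFun := fun x => u * x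
      map_add' := fun x y => mul_add _ _ _
      map_smul' := fun c x => mul_smul_comm c (u : K ⊗[k] A) x
      invFun := fun x => (u⁻¹ : (K ⊗[k] A)ˣ) * x
      left_inv := fun x => u.inv_mul_cancel_left x
      right_inv := fun x => u.mul_inv_cancel_left x }
  let a' : GpH1.OneCocycle (K ≃ₐ[k] K) ((K ⊗[k] A) ≃ₗ[K] (K ⊗[k] A)) :=
    ⟨fun σ => L (a σ), fun σ τ => LinearEquiv.ext fun x => by
      change (a (σ * τ) : K ⊗[k] A) * x = a σ * σ • ((a τ : K ⊗[k] A) * σ⁻¹ • x)
      rw [ha, smul_mul', smul_inv_smul, mul_assoc]⟩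
  set W : Submodule k (K ⊗[k] A) := GalDesc.fixedSub a' with hWdef
  have hW : ∀ x, x ∈ W ↔ ∀ σ : K ≃ₐ[k] K, (a σ : K ⊗[k] A) * σ • x = x := fun x => Iff.rfl
  have hbij := GalDescX.bijective_of_range_eq a' W.subtype Subtype.val_injective
    (Submodule.range_subtype W)
  -- the right action of `A`
  let r : A → K ⊗[k] A := fun b => (1 : K) ⊗ₜ[k] b
  have hr : ∀ (σ : K ≃ₐ[k] K) b, σ • r b = r b := fun σ b => GalDescX.smul_one_tmul σ b
  have hWr : ∀ x ∈ W, ∀ b, x * r b ∈ W := fun x hx b σ => by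
    change (a σ : K ⊗[k] A) * σ • (x * r b) = x * r b
    rw [smul_mul', hr, ← mul_assoc, (hW x).1 hx σ]
  letI : SMul Aᵐᵒᵖ W := ⟨fun b x => ⟨(x : K ⊗[k] A) * r (unop b), hWr _ x.2 _⟩⟩
  have hval : ∀ (b : Aᵐᵒᵖ) (x : W), ((b • x : W) : K ⊗[k] A) = (x : K ⊗[k] A) * r (unop b) :=
    fun b x => rfl
  letI : Module Aᵐᵒᵖ W :=
    { one_smul := fun x => Subtype.ext (by
        simp only [hval, r, unop_one, ← Algebra.TensorProduct.one_def, mul_one])
      mul_smul := fun b b' x => Subtype.ext (by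
        simp only [hval, r, unop_mul, mul_assoc, Algebra.TensorProduct.tmul_mul_tmul, one_mul])
      smul_zero := fun b => Subtype.ext (by simp [hval])
      smul_add := fun b x y => Subtype.ext (by simp [hval, add_mul])
      add_smul := fun b b' x => Subtype.ext (by
        simp [hval, r, TensorProduct.tmul_add, mul_add])
      zero_smul := fun x => Subtype.ext (by simp [hval, r]) }
  haveI : IsScalarTower k Aᵐᵒᵖ W := ⟨fun c b x => Subtype.ext (by
    simp [hval, r, TensorProduct.tmul_smul, mul_smul_comm])⟩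
  set d := Module.finrank k K
  set bK := Module.finBasis k K
  obtain ⟨eW, heW⟩ := exists_piEquiv (k := k) (K := K) W
  obtain ⟨eA, heA⟩ := exists_piEquiv (k := k) (K := K) A
  let Φ : K ⊗[k] W ≃ₗ[K] K ⊗[k] A := LinearEquiv.ofBijective _ hbij
  have hΦ : ∀ f, Φ (eW f) = ∑ i, bK i • (f i : K ⊗[k] A) := fun f => by
    rw [heW, map_sum]
    exact Finset.sum_congr rfl fun i _ => by simp [Φ]; rfl
  let g : (Fin d → W) ≃ₗ[k] (Fin d → A) := (eW.trans (Φ.restrictScalars k)).trans eA.symm
  have hg : ∀ (b : Aᵐᵒᵖ) f, g (b • f) = b • g f := fun b f => by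
    apply eA.injective
    have h1 : eA (b • g f) = eA (g f) * r (unop b) := by
      simp only [heA, Finset.sum_mul, r, Algebra.TensorProduct.tmul_mul_tmul, mul_one]
      rfl
    rw [h1]
    simp only [g, LinearEquiv.trans_apply, LinearEquiv.apply_symm_apply,
      LinearEquiv.restrictScalars_apply, hΦ, Finset.sum_mul]
    exact Finset.sum_congr rfl fun i _ => by
      rw [Pi.smul_apply, hval, smul_mul_assoc]
  let gB : (Fin d → W) ≃ₗ[Aᵐᵒᵖ] (Fin d → A) := { g with map_smul' := hg }
  obtain ⟨w, hw⟩ := exists_span_singleton_eq_top (k := k) (B := Aᵐᵒᵖ) W (by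
    intro T _ _ _ _ _ hT
    have : FiniteDimensional k (W →ₗ[Aᵐᵒᵖ] T) := Module.Finite.of_injective
      (LinearMap.restrictScalarsₗ (S := Aᵐᵒᵖ) (M := W) (N := T) (R := k) (R₁ := k))
      (LinearMap.restrictScalars_injective k)
    have e1 : (Fin d → (W →ₗ[Aᵐᵒᵖ] T)) ≃ₗ[k] (Fin d → (A →ₗ[Aᵐᵒᵖ] T)) :=
      ((LinearMap.lsum Aᵐᵒᵖ (fun _ : Fin d => W) k).trans
        (LinearEquiv.congrLeft T k gB)).trans (LinearMap.lsum Aᵐᵒᵖ (fun _ : Fin d => A) k).symm
    let e2 : (A →ₗ[Aᵐᵒᵖ] T) ≃ₗ[k] T :=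
      { toFun := fun f => f 1
        map_add' := fun _ _ => rfl
        map_smul' := fun _ _ => rfl
        invFun := fun t =>
          { toFun := fun x => op x • t
            map_add' := fun x y => by rw [op_add, add_smul]
            map_smul' := fun b x => by
              rw [RingHom.id_apply, ← mul_smul, MulOpposite.smul_eq_mul_unop, op_mul, op_unop] }
        left_inv := fun f => LinearMap.ext fun x => by
          change op x • f 1 = f x
          rw [← map_smul, MulOpposite.smul_eq_mul_unop, unop_op, one_mul]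
        right_inv := fun t => by
          change op (1 : A) • t = t
          rw [op_one, one_smul] }
    have : FiniteDimensional k (A →ₗ[Aᵐᵒᵖ] T) := Module.Finite.equiv e2.symm
    have h := e1.finrank_eq
    rw [Module.finrank_pi_fintype, Module.finrank_pi_fintype, Finset.sum_const, Finset.sum_const,
      Finset.card_univ, Fintype.card_fin, smul_eq_mul, smul_eq_mul, e2.finrank_eq] at h
    exact le_of_eq (Nat.eq_of_mul_eq_mul_left Module.finrank_pos h))
  obtain ⟨y, hy⟩ : ∃ y, (w : K ⊗[k] A) * y = 1 := by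
    have key : ∀ t : K ⊗[k] W, ∃ y, (w : K ⊗[k] A) * y = LinearMap.liftBaseChange K W.subtype t := by
      intro t
      induction t with
      | zero => exact ⟨0, by simp⟩
      | tmul c x =>
        obtain ⟨b, hb⟩ := Submodule.mem_span_singleton.1 (hw ▸ Submodule.mem_top : x ∈ Submodule.span Aᵐᵒᵖ {w})
        refine ⟨c • r (unop b), ?_⟩
        rw [LinearMap.liftBaseChange_tmul, Submodule.subtype_apply, ← hb, hval, mul_smul_comm]
      | add s t hs ht =>
        obtain ⟨y, hy⟩ := hs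
        obtain ⟨z, hz⟩ := ht
        exact ⟨y + z, by rw [mul_add, map_add, hy, hz]⟩
    obtain ⟨t, ht⟩ := hbij.2 1
    obtain ⟨y, hy⟩ := key t
    exact ⟨y, hy.trans ht⟩
  have hinj : Function.Injective fun x => (w : K ⊗[k] A) * x := by
    have hs : Function.Surjective (LinearMap.mulLeft K (w : K ⊗[k] A)) := fun x =>
      ⟨y * x, by rw [LinearMap.mulLeft_apply, ← mul_assoc, hy, one_mul]⟩
    exact (LinearMap.injective_iff_surjective (f := LinearMap.mulLeft K (w : K ⊗[k] A))).2 hs
  have hy' : y * (w : K ⊗[k] A) = 1 := hinj (by simp only [← mul_assoc, hy, one_mul, mul_one])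
  exact ⟨⟨w, y, hy, hy'⟩, (hW _).1 w.2⟩

end Groth.Agent.GalCohMisc
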